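import Groth.Agent.L29.DCoh.EvalMain

/-!
Internal Hom complexes into K-injective complexes compute `RSheafHom`, naturally in the injective variable.
-/

set_option autoImplicit false
set_option linter.style.haveILetI false
set_option backward.defeqAttrib.useBackward true
set_option backward.isDefEq.respectTransparency false
set_option backward.isDefEq.respectTransparency.types false

universe u

open CategoryTheory CategoryTheory.Limits AlgebraicGeometry CochainComplex

attribute [local instance] HasDerivedCategory.standard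

noncomputable section

namespace Groth.L10.DualNat

open Groth.L00 Groth.L29.DC

variable {X : Scheme.{u}}

/-- K-injective complexes -/
abbrev kInj (X : Scheme.{u}) : ObjectProperty (CochainComplex X.Modules ℤ) := fun J => J.IsKInjective

/-- a natural isomorphism on K-injective complexes descends to the derived category -/
theorem nonempty_iso_of_kInj {E : Type*} [Category E] (F G : DCoh.D X ⥤ E)
    (e : (kInj X).ι ⋙ DerivedCategory.Q ⋙ F ≅ (kInj X).ι ⋙ DerivedCategory.Q ⋙ G) : Nonempty (F ≅ G) := by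
  have h : ∀ M : DCoh.D X, ∃ J : (kInj X).FullSubcategory, Nonempty (DerivedCategory.Q.obj J.obj ≅ M) := fun M => by
    obtain ⟨I, hI, hu⟩ := EvalMain.exists_kinj M
    exact ⟨⟨I, hI⟩, hu⟩
  choose J hJ using h
  let u := fun M => (hJ M).some
  refine ⟨NatIso.ofComponents (fun M => F.mapIso (u M).symm ≪≫ e.app (J M) ≪≫ G.mapIso (u M)) fun {M M'} f => ?_⟩
  haveI : (J M').obj.IsKInjective := (J M').property
  obtain ⟨g, hg⟩ := DerAdj.exists_Q_map ((u M).hom ≫ f ≫ (u M').inv)
  have hn := e.hom.naturality (ObjectProperty.homMk (P := kInj X) (X := J M) (Y := J M') g)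
  change F.map (DerivedCategory.Q.map g) ≫ e.hom.app (J M') =
    e.hom.app (J M) ≫ G.map (DerivedCategory.Q.map g) at hn
  rw [hg] at hn
  simp only [Iso.trans_hom, Functor.mapIso_hom, Iso.symm_hom, Iso.app_hom, Category.assoc]
  have h1 : F.map f ≫ F.map (u M').inv =
      F.map (u M).inv ≫ F.map ((u M).hom ≫ f ≫ (u M').inv) := by
    rw [← Functor.map_comp, ← Functor.map_comp, Iso.inv_hom_id_assoc]
  rw [reassoc_of% h1, reassoc_of% hn]
  congr 2
  rw [← Functor.map_comp, ← Functor.map_comp, Category.assoc, Category.assoc, Iso.inv_hom_id, Category.comp_id]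

section Sq

variable {C : Type*} [Category C] [Abelian C]
  {Φ : CochainComplex C ℤ ⥤ CochainComplex C ℤ ⥤ CochainComplex C ℤ} [∀ X, (Φ.obj X).IsLeftAdjoint]

theorem m_sq {P Q R T : CochainComplex C ℤ} {a : P ⟶ Q} {b : Q ⟶ T} {c : P ⟶ R} {d : R ⟶ T}
    (h : a ≫ b = c ≫ d) (J : CochainComplex C ℤ) :
    HomCx.m Φ b J ≫ HomCx.m Φ a J = HomCx.m Φ d J ≫ HomCx.m Φ c J := by
  simp only [HomCx.m, EvalAbs.mate_comp, ← Functor.map_comp, h]

theorem isIso_m {P Q : CochainComplex C ℤ} (e : P ≅ Q) (J : CochainComplex C ℤ) : IsIso (HomCx.m Φ e.hom J) :=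
  EvalAbs.isIso_mate _ _ (Φ.mapIso e) J

variable [HasDerivedCategory C]

theorem isIso_Q_m_aux (d : HomCx.Data Φ) {P Q C₁ C₂ R R' : CochainComplex C ℤ} (g : P ⟶ Q)
    (i : P ⟶ C₁) (p : C₁ ⟶ R) (w : i ≫ p = 0) (i' : Q ⟶ C₂) (p' : C₂ ⟶ R') (w' : i' ≫ p' = 0)
    (σ : ∀ n, ((ShortComplex.mk i p w).map (HomologicalComplex.eval C (ComplexShape.up ℤ) n)).Splitting)
    (σ' : ∀ n, ((ShortComplex.mk i' p' w').map (HomologicalComplex.eval C (ComplexShape.up ℤ) n)).Splitting)
    (c : C₁ ⟶ C₂) (r : R ≅ R') (h₁₂ : g ≫ i' = i ≫ c) (h₂₃ : c ≫ p' = p ≫ r.hom)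
    (J : CochainComplex C ℤ) [J.IsKInjective]
    (h : ((HomCx.H Φ C₁).obj J).Acyclic) (h' : ((HomCx.H Φ C₂).obj J).Acyclic) :
    IsIso (DerivedCategory.Q.map (HomCx.m Φ g J)) := by
  let ψ : HomCx.homSC d (ShortComplex.mk i' p' w') J ⟶ HomCx.homSC d (ShortComplex.mk i p w) J :=
    ShortComplex.homMk (HomCx.m Φ r.hom J) (HomCx.m Φ c J) (HomCx.m Φ g J) (m_sq h₂₃.symm J) (m_sq h₁₂.symm J)
  haveI : IsIso (HomCx.m Φ r.hom J) := isIso_m r J
  exact (EvalLocal.isIso_tri
    (HomologicalComplex.shortExact_of_degreewise_shortExact _ fun n => (HomCx.homSplit d _ σ' J n).shortExact)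
    (HomologicalComplex.shortExact_of_degreewise_shortExact _ fun n => (HomCx.homSplit d _ σ J n).shortExact) ψ).1
    (show IsIso (DerivedCategory.Q.map (HomCx.m Φ r.hom J)) from inferInstance)
    ((EvalLocal.isZero_Q_of_acyclic h').isIso (EvalLocal.isZero_Q_of_acyclic h) _)

end Sq

/-- internal Hom into K-injective complexes sends quasi-isomorphisms to isomorphisms -/
theorem isIso_Q_m {K K' : CochainComplex X.Modules ℤ} (g : K ⟶ K') [QuasiIso g]
    (J : CochainComplex X.Modules ℤ) [J.IsKInjective] :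
    IsIso (DerivedCategory.Q.map (HomCx.m (Eval.PhiR X) g J)) := by
  let T := mappingCone.triangleMap (𝟙 K) g (𝟙 K) g rfl
  refine isIso_Q_m_aux (Eval.dataR X) g (mappingCone.inr (𝟙 K)) _ _ (mappingCone.inr g) _ _
    (mappingCone.triangleRotateShortComplexSplitting (𝟙 K))
    (mappingCone.triangleRotateShortComplexSplitting g) T.hom₃ (Iso.refl _) ?_ ?_ J
    (EvalMain.acyclic_H J _ fun i =>
      (HomologicalComplex.exactAt_iff_isZero_homology _ _).2 (ConeTransfer.acyclic_cone (𝟙 K) i))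
    (EvalMain.acyclic_H J _ fun i =>
      (HomologicalComplex.exactAt_iff_isZero_homology _ _).2 (ConeTransfer.acyclic_cone g i))
  · exact T.comm₂.symm
  refine T.comm₃.symm.trans ?_
  change _ ≫ (CategoryTheory.shiftFunctor _ (1 : ℤ)).map (𝟙 K) = _
  rw [CategoryTheory.Functor.map_id]
  rfl

section Gen

variable {C : Type*} [Category C] {D : Type*} [Category D] (q : C ⥤ D) {F H : C ⥤ C} (adj : F ⊣ H)
  {L R : D ⥤ D} (b : L ⊣ R) (c : q ⋙ L ⟶ F ⋙ q) (P : ObjectProperty C)

/-- evaluation -/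
def evG (J : C) : L.obj (q.obj (H.obj J)) ⟶ q.obj J := c.app (H.obj J) ≫ q.map (adj.counit.app J)

/-- the transposed evaluation -/
def xiG : P.ι ⋙ H ⋙ q ⟶ P.ι ⋙ q ⋙ R where
  app J := b.homEquiv _ _ (evG q adj c J.obj)
  naturality {J J'} j := by
    change q.map (H.map j.hom) ≫ b.homEquiv _ _ (evG q adj c J'.obj) =
      b.homEquiv _ _ (evG q adj c J.obj) ≫ R.map (q.map j.hom)
    rw [← b.homEquiv_naturality_left, ← b.homEquiv_naturality_right]
    congr 1
    rw [evG, evG, Category.assoc, ← q.map_comp]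
    have h := adj.counit.naturality j.hom
    simp only [Functor.comp_map, Functor.id_map, Functor.id_obj, Functor.comp_obj] at h
    rw [← h, q.map_comp]
    exact c.naturality_assoc (H.map j.hom) _

theorem isIso_transpose {M₀ : D} {N : D} (ε : L.obj M₀ ⟶ N)
    (h : ∀ M : D, Function.Bijective (fun η : M ⟶ M₀ => L.map η ≫ ε)) : IsIso (b.homEquiv _ _ ε) := by
  have hbij : ∀ M : D, Function.Bijective (fun η : M ⟶ M₀ => η ≫ b.homEquiv _ _ ε) := fun M => by
    have hf : (fun η : M ⟶ M₀ => η ≫ b.homEquiv _ _ ε) = (b.homEquiv M N) ∘ (fun η => L.map η ≫ ε) := by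
      funext η
      exact (b.homEquiv_naturality_left η ε).symm
    rw [hf]
    exact (b.homEquiv M N).bijective.comp (h M)
  obtain ⟨iv, hinv⟩ := (hbij _).2 (𝟙 _)
  refine ⟨iv, (hbij _).1 ?_, hinv⟩
  simp only [Category.assoc]
  exact ((congrArg (b.homEquiv _ _ ε ≫ ·) hinv).trans (Category.comp_id _)).trans (Category.id_comp _).symm

variable {F' H' : C ⥤ C} (adj' : F' ⊣ H') {L' R' : D ⥤ D} (b' : L' ⊣ R') (c' : q ⋙ L' ⟶ F' ⋙ q)
  (t : F ⟶ F') (s : L ⟶ L') (hts : ∀ X : C, s.app (q.obj X) ≫ c'.app X = c.app X ≫ q.map (t.app X))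

include hts in
theorem xiG_change [Preadditive D] (J : C) :
    b'.homEquiv _ _ (evG q adj' c' J) ≫ RHomExact.mate b b' s (q.obj J) =
      q.map (adj.homEquiv _ _ (t.app (H'.obj J) ≫ adj'.counit.app J)) ≫ b.homEquiv _ _ (evG q adj c J) := by
  apply (b.homEquiv _ _).symm.injective
  rw [RHomExact.symm_comp_mate, Equiv.symm_apply_apply, ← b.homEquiv_naturality_left, Equiv.symm_apply_apply,
    evG, evG, reassoc_of% (hts (H'.obj J))]
  have h := c.naturality (adj.homEquiv _ _ (t.app (H'.obj J) ≫ adj'.counit.app J))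
  simp only [Functor.comp_map, Functor.comp_obj, Functor.id_obj] at h ⊢
  rw [reassoc_of% h, ← q.map_comp, ← q.map_comp]
  congr 2
  exact (((adj.homEquiv _ _).symm_apply_apply _).symm.trans (adj.homEquiv_counit _ _ _))

end Gen

section Xi

variable (A : CochainComplex X.Modules ℤ) [DCoh.HasLTensorCx A] [DCoh.HasRSheafHom A]

/-- the derived counit of `- ⊗ A` -/
def cu : DerivedCategory.Q ⋙ DCoh.LTensorCx A ⟶
    (Eval.PhiR X).obj A ⋙ DerivedCategory.Q :=
  (DCoh.tensorCxQ A).totalLeftDerivedCounit DerivedCategory.Q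
    (HomologicalComplex.quasiIso X.Modules (ComplexShape.up ℤ))

theorem isIso_cu {A : CochainComplex X.Modules ℤ} (hA : DCoh.IsKFlat A) [DCoh.HasLTensorCx A] : IsIso (cu A) := by
  haveI : ∀ P, IsIso ((cu A).app P) := fun P => by
    haveI := KFlat.quasiIso_rF P
    haveI := Assoc.quasiIso_tensor_right hA ((KFlat.rF X).app P)
    haveI : IsIso (DerivedCategory.Q.map ((KFlat.rF X).app P)) :=
      (DerivedCategory.isIso_Q_map_iff_quasiIso _ _).2 inferInstance
    haveI : QuasiIso (((DCoh.tensorCx (X := X)).flip.obj A).map ((KFlat.rF X).app P)) :=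
      Assoc.quasiIso_tensor_right hA ((KFlat.rF X).app P)
    haveI : IsIso ((DCoh.tensorCxQ A).map ((KFlat.rF X).app P)) :=
      (DerivedCategory.isIso_Q_map_iff_quasiIso _ _).2 inferInstance
    haveI : IsIso ((DerivedCategory.Q ⋙ DCoh.LTensorCx A).map ((KFlat.rF X).app P)) :=
      inferInstanceAs (IsIso ((DCoh.LTensorCx A).map (DerivedCategory.Q.map ((KFlat.rF X).app P))))
    haveI : IsIso ((cu A).app ((KFlat.RF X).obj P)) := Assoc.isIso_counit A _ (KFlat.isKFlat_RF P)
    haveI : IsIso ((DerivedCategory.Q ⋙ DCoh.LTensorCx A).map ((KFlat.rF X).app P) ≫ (cu A).app P) := by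
      erw [(cu A).naturality ((KFlat.rF X).app P)]
      exact IsIso.comp_isIso' ‹IsIso ((cu A).app ((KFlat.RF X).obj P))› ‹IsIso ((DCoh.tensorCxQ A).map ((KFlat.rF X).app P))›
    exact IsIso.of_isIso_comp_left ((DerivedCategory.Q ⋙ DCoh.LTensorCx A).map ((KFlat.rF X).app P)) _
  exact NatIso.isIso_of_isIso_app _

variable (J : CochainComplex X.Modules ℤ) [J.IsKInjective]

theorem isIso_xi_of_kflat {A : CochainComplex X.Modules ℤ} (hA : DCoh.IsKFlat A) [DCoh.HasLTensorCx A]
    [DCoh.HasRSheafHom A] : IsIso ((DCoh.RSheafHomAdj A).homEquiv _ _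
      (evG DerivedCategory.Q (HomCx.adj (Eval.PhiR X) A) (cu A) J)) := by
  haveI := QRlim.enoughKInj X
  haveI := isIso_cu hA
  haveI : ((Eval.PhiR X).obj A).Additive := (Eval.dataR X).additive A
  refine isIso_transpose (DCoh.RSheafHomAdj A) _ fun M => ?_
  exact DerRight.bijective_comp (HomCx.adj (Eval.PhiR X) A) ((Eval.dataR X).retractObj A)
    (RHom.acyclic_flip hA) (DCoh.LTensorCx A) (asIso (cu A)) J M

theorem isIso_xi : IsIso ((DCoh.RSheafHomAdj A).homEquiv _ _
    (evG DerivedCategory.Q (HomCx.adj (Eval.PhiR X) A) (cu A) J)) := by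
  let R := (KFlat.RF X).obj A
  let r : R ⟶ A := (KFlat.rF X).app A
  haveI : QuasiIso r := KFlat.quasiIso_rF A
  haveI := KFlat.hasLTensorCx R
  haveI := RHom.hasRSheafHom R
  haveI := isIso_Q_m r J
  haveI := isIso_xi_of_kflat J (KFlat.isKFlat_RF A)
  haveI := RHom.isIso_ltMap r
  haveI : IsIso (RHomExact.mate (DCoh.RSheafHomAdj R) (DCoh.RSheafHomAdj A) (RHom.ltMap r)
      (DerivedCategory.Q.obj J)) := EvalAbs.isIso_mate _ _ (asIso (RHom.ltMap r)) _
  have key := xiG_change DerivedCategory.Q (HomCx.adj (Eval.PhiR X) R) (DCoh.RSheafHomAdj R) (cu R)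
    (HomCx.adj (Eval.PhiR X) A) (DCoh.RSheafHomAdj A) (cu A) ((Eval.PhiR X).map r) (RHom.ltMap r)
    (fun P => RHom.ltMap_fac r P) J
  haveI : IsIso ((DCoh.RSheafHomAdj A).homEquiv _ _
      (evG DerivedCategory.Q (HomCx.adj (Eval.PhiR X) A) (cu A) J) ≫
        RHomExact.mate (DCoh.RSheafHomAdj R) (DCoh.RSheafHomAdj A) (RHom.ltMap r) (DerivedCategory.Q.obj J)) := by
    rw [key]
    exact IsIso.comp_isIso' (isIso_Q_m r J) (isIso_xi_of_kflat J (KFlat.isKFlat_RF A))
  exact IsIso.of_isIso_comp_right _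
    (RHomExact.mate (DCoh.RSheafHomAdj R) (DCoh.RSheafHomAdj A) (RHom.ltMap r) (DerivedCategory.Q.obj J))

/-- internal Hom complexes compute `RSheafHom` naturally -/
theorem nonempty_homNat : Nonempty ((kInj X).ι ⋙ HomCx.H (Eval.PhiR X) A ⋙ DerivedCategory.Q ≅
    (kInj X).ι ⋙ DerivedCategory.Q ⋙ DCoh.RSheafHom A) := by
  let τ := xiG DerivedCategory.Q (HomCx.adj (Eval.PhiR X) A) (DCoh.RSheafHomAdj A) (cu A) (kInj X)
  haveI : ∀ J, IsIso (τ.app J) := fun J => by
    haveI : J.obj.IsKInjective := J.property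
    exact isIso_xi A J.obj
  exact ⟨@asIso _ _ _ _ τ (NatIso.isIso_of_isIso_app τ)⟩

end Xi

end Groth.L10.DualNat
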