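import Groth.Agent.L10.DualNat.HomNat

/-!
The evaluation map is natural in the injective variable.
-/

set_option autoImplicit false
set_option linter.style.haveILetI false
set_option backward.isDefEq.respectTransparency false
set_option backward.isDefEq.respectTransparency.types false

universe v u

open CategoryTheory CategoryTheory.Limits

noncomputable section

namespace Groth.L10.DualNat

open Groth.L29.DC

variable {D : Type u} [Category.{v} D] [Preadditive D] (T : D ⥤ D ⥤ D) [∀ X, (T.obj X).IsLeftAdjoint]
  [∀ X, (T.flip.obj X).IsLeftAdjoint] (α : ∀ K L : D, T.flip.obj K ⋙ T.flip.obj L ≅ T.flip.obj ((T.obj K).obj L))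
  (I K : D)

theorem kappa_natural_right {J J' : D} (j : J ⟶ J') :
    (T.map ((T.flip.obj I).rightAdjoint.map j)).app K ≫ EvalAbs.κ T α I J' K =
      EvalAbs.κ T α I J K ≫ (T.flip.obj (EvalAbs.A T I K)).rightAdjoint.map j := by
  apply ((Adjunction.ofIsLeftAdjoint (T.flip.obj (EvalAbs.A T I K))).homEquiv _ _).symm.injective
  rw [Adjunction.homEquiv_naturality_right_symm, EvalAbs.symm_κ, Adjunction.homEquiv_naturality_left_symm,
    EvalAbs.symm_κ, EvalAbs.body, EvalAbs.body]
  let ν := (T.flip.obj I).rightAdjoint.map j
  let ε := (Adjunction.ofIsLeftAdjoint (T.obj K)).counit.app I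
  have h1 := (α K (EvalAbs.A T I K)).hom.naturality ν
  simp only [Functor.comp_map, Functor.comp_obj] at h1
  have h2 := (T.map ν).naturality ε
  have h3 := (Adjunction.ofIsLeftAdjoint (T.flip.obj I)).counit.naturality j
  simp only [Functor.comp_map, Functor.comp_obj, Functor.id_map, Functor.id_obj, Functor.flip_obj_map] at h3
  simp only [Category.assoc]
  erw [reassoc_of% h1]
  congr 1
  erw [← reassoc_of% h2]
  congr 1

/-- the evaluation map, natural in the injective variable -/
def kappaNat : (T.flip.obj I).rightAdjoint ⋙ T.flip.obj K ⟶ (T.flip.obj (EvalAbs.A T I K)).rightAdjoint where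
  app J := EvalAbs.κ T α I J K
  naturality {J J'} j := kappa_natural_right T α I K j

end Groth.L10.DualNat
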