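import Groth.Agent.L10.DualNat.Kappa

/-!
For a perfect complex `K` with dual `D`: `RHom(K, -) ≅ - ⊗^L D`, naturally.
-/

set_option autoImplicit false
set_option linter.style.haveILetI false
set_option backward.defeqAttrib.useBackward true
set_option backward.isDefEq.respectTransparency false
set_option backward.isDefEq.respectTransparency.types false

universe u

open CategoryTheory CategoryTheory.Limits AlgebraicGeometry

attribute [local instance] HasDerivedCategory.standard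

noncomputable section

namespace Groth.L10.DualNat

open Groth.L00 Groth.L29.DC

section Comb

variable {C D : Type*} [Category C] [Category D] (q : C ⥤ D) (P : ObjectProperty C) {Hi Ha TK : C ⥤ C}
  {R₁ R₂ LK : D ⥤ D}

theorem nonempty_comb (e₁ : P.ι ⋙ Hi ⋙ q ≅ P.ι ⋙ q ⋙ R₁) (e₂ : P.ι ⋙ Ha ⋙ q ≅ P.ι ⋙ q ⋙ R₂)
    (eK : q ⋙ LK ≅ TK ⋙ q) (κ : Hi ⋙ TK ⟶ Ha) (hκ : ∀ J : P.FullSubcategory, IsIso (q.map (κ.app J.obj))) :
    Nonempty (P.ι ⋙ q ⋙ R₁ ⋙ LK ≅ P.ι ⋙ q ⋙ R₂) :=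
  ⟨Functor.isoWhiskerRight e₁.symm LK ≪≫ Functor.isoWhiskerLeft (P.ι ⋙ Hi) eK ≪≫
    NatIso.ofComponents (F := P.ι ⋙ Hi ⋙ TK ⋙ q) (G := P.ι ⋙ Ha ⋙ q)
      (fun J => @asIso _ _ _ _ (q.map (κ.app J.obj)) (hκ J))
      (fun j => (q.map_comp _ _).symm.trans ((q.congr_map (κ.naturality j.hom)).trans (q.map_comp _ _))) ≪≫ e₂⟩

end Comb

variable {X : Scheme.{u}}

/-- `RHom(I, -) ⊗ K ≅ RHom(A, -)` on K-injective complexes -/
theorem nonempty_evalNat (I K : CochainComplex X.Modules ℤ) [I.IsKInjective] (hK : DCoh.IsKFlat K)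
    (hKp : DCoh.IsPerfect (DCoh.toD X K)) [DCoh.HasLTensorCx I] [DCoh.HasRSheafHom I] [DCoh.HasLTensorCx K]
    [DCoh.HasLTensorCx (EvalAbs.A (Eval.PhiL X) I K)] [DCoh.HasRSheafHom (EvalAbs.A (Eval.PhiL X) I K)] :
    Nonempty (DCoh.RSheafHom I ⋙ DCoh.LTensorCx K ≅ DCoh.RSheafHom (EvalAbs.A (Eval.PhiL X) I K)) := by
  obtain ⟨hI⟩ := nonempty_homNat I
  obtain ⟨hA⟩ := nonempty_homNat (EvalAbs.A (Eval.PhiL X) I K)
  obtain ⟨c⟩ := nonempty_comb DerivedCategory.Q (kInj X) hI hA (Assoc.allIso K hK)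
    (kappaNat (Eval.PhiL X) (fun K L => Assoc.assocFunctor K L) I K) fun J =>
      haveI : J.obj.IsKInjective := J.property
      EvalMain.isIso_Q_κ I J.obj hK hKp
  exact nonempty_iso_of_kInj _ _ c

/-- `- ⊗ K` is internal Hom out of the dual -/
theorem nonempty_LT_iso_RHom (K D : CochainComplex X.Modules ℤ) (hK : DCoh.IsKFlat K)
    (hKp : DCoh.IsPerfect (DCoh.toD X K)) [DCoh.HasLTensorCx K] [DCoh.HasRSheafHom K]
    [DCoh.HasLTensorCx D] [DCoh.HasRSheafHom D]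
    (hD : Nonempty (DCoh.toD X D ≅ (DCoh.RSheafHom K).obj (DCoh.toD X (RHom.O0 X)))) :
    Nonempty (DCoh.LTensorCx K ≅ DCoh.RSheafHom D) := by
  obtain ⟨I, hI, ⟨eI⟩⟩ := EvalMain.exists_kinj (DCoh.toD X (RHom.O0 X))
  haveI := hI
  haveI := KFlat.hasLTensorCx I
  haveI := RHom.hasRSheafHom I
  haveI := KFlat.hasLTensorCx (RHom.O0 X)
  haveI := RHom.hasRSheafHom (RHom.O0 X)
  haveI := KFlat.hasLTensorCx (EvalAbs.A (Eval.PhiL X) I K)
  haveI := RHom.hasRSheafHom (EvalAbs.A (Eval.PhiL X) I K)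
  obtain ⟨e⟩ := nonempty_evalNat I K hK hKp
  obtain ⟨g⟩ := EvalMain.nonempty_RSheafHom_iso eI
  obtain ⟨u⟩ := RHom.nonempty_RSheafHom_O0 (X := X)
  obtain ⟨c⟩ := EvalMain.nonempty_RSheafHom I K
  obtain ⟨d⟩ := hD
  let eA : DCoh.toD X (EvalAbs.A (Eval.PhiL X) I K) ≅ DCoh.toD X D :=
    DerivedCategory.Q.mapIso ((EvalMain.hIso K).app I) ≪≫ c ≪≫ (DCoh.RSheafHom K).mapIso eI ≪≫ d.symm
  obtain ⟨f⟩ := EvalMain.nonempty_RSheafHom_iso eA
  exact ⟨(DCoh.LTensorCx K).leftUnitor.symm ≪≫ Functor.isoWhiskerRight (g ≪≫ u).symm (DCoh.LTensorCx K) ≪≫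
    e ≪≫ f⟩

/-- internal Hom out of a perfect complex is tensoring with the dual -/
theorem nonempty_RSheafHom_iso_LT (K : CochainComplex X.Modules ℤ) (hKp : DCoh.IsPerfect (DCoh.toD X K))
    [DCoh.HasLTensorCx K] [DCoh.HasRSheafHom K] (D : CochainComplex X.Modules ℤ) [DCoh.HasLTensorCx D]
    (hD : Nonempty (DCoh.toD X D ≅
      (DCoh.RSheafHom K).obj (DCoh.inD X (Coh.structureModule X)))) :
    DCoh.IsPerfect (DCoh.toD X D) ∧ Nonempty (DCoh.RSheafHom K ≅ DCoh.LTensorCx D) := by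
  haveI := fun E : CochainComplex X.Modules ℤ => KFlat.hasLTensorCx E
  haveI := fun E : CochainComplex X.Modules ℤ => RHom.hasRSheafHom E
  obtain ⟨o⟩ := EvalMain.nonempty_O0_iso (X := X)
  let K' := (KFlat.RF X).obj K
  let eK : DCoh.toD X K' ≅ DCoh.toD X K :=
    @asIso _ _ _ _ (DerivedCategory.Q.map ((KFlat.rF X).app K))
      ((DerivedCategory.isIso_Q_map_iff_quasiIso _ _).2 (KFlat.quasiIso_rF K))
  let D' := (KFlat.RF X).obj D
  let eD : DCoh.toD X D' ≅ DCoh.toD X D :=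
    @asIso _ _ _ _ (DerivedCategory.Q.map ((KFlat.rF X).app D))
      ((DerivedCategory.isIso_Q_map_iff_quasiIso _ _).2 (KFlat.quasiIso_rF D))
  have hK' : DCoh.IsPerfect (DCoh.toD X K') := isPerfect_of_iso eK.symm hKp
  obtain ⟨s⟩ := EvalMain.nonempty_RSheafHom_iso eK
  obtain ⟨d⟩ := hD
  let d' : DCoh.toD X D' ≅ (DCoh.RSheafHom K').obj (DCoh.toD X (RHom.O0 X)) :=
    eD ≪≫ d ≪≫ (DCoh.RSheafHom K).mapIso o.symm ≪≫ (s.app _).symm
  have hD' : DCoh.IsPerfect (DCoh.toD X D') :=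
    isPerfect_of_iso d'.symm (EvalMain.isPerfect_dual K' (KFlat.isKFlat_RF K) hK')
  refine ⟨isPerfect_of_iso eD hD', ?_⟩
  obtain ⟨u⟩ := RHom.nonempty_RSheafHom_O0 (X := X)
  obtain ⟨w⟩ := EvalMain.nonempty_eval K' (RHom.O0 X) D' (KFlat.isKFlat_RF K) hK' ⟨d'⟩ (DCoh.toD X (RHom.O0 X))
  let v : DCoh.toD X K' ≅ (DCoh.RSheafHom D').obj (DCoh.toD X (RHom.O0 X)) :=
    DerivedCategory.Q.mapIso ((RHom.flipIso (RHom.O0 X) ≪≫ RHom.unitCxIso).app K').symm ≪≫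
      ((Assoc.allIso K' (KFlat.isKFlat_RF K)).app (RHom.O0 X)).symm ≪≫
      (DCoh.LTensorCx K').mapIso (u.app _).symm ≪≫ w
  obtain ⟨b⟩ := nonempty_LT_iso_RHom D' K' (KFlat.isKFlat_RF D) hD' ⟨v⟩
  obtain ⟨t⟩ := RHom.nonempty_lt_iso eD
  exact ⟨s.symm ≪≫ b.symm ≪≫ t⟩

end Groth.L10.DualNat
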